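/-
Over a Noetherian ring, for a finite module of finite projective dimension, the projective dimension is detected by
`Ext` into the ring.
-/
import Mathlib.Algebra.Category.ModuleCat.Ext.HasExt
import Mathlib.Algebra.Category.ModuleCat.Projective
import Mathlib.Algebra.Homology.ShortComplex.ModuleCat
import Mathlib.Algebra.Homology.DerivedCategory.Ext.ExactSequences
import Mathlib.CategoryTheory.Abelian.Projective.Dimension
import Mathlib.RingTheory.Noetherian.Basic
import Mathlib.RingTheory.Finiteness.Cardinality

namespace Groth.Agent.ExtVanish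

universe u

open CategoryTheory

variable {A : Type u} [CommRing A]

lemma shortExact_ker {M : Type u} [AddCommGroup M] [Module A M] {n : ℕ} (π : (Fin n → A) →ₗ[A] M)
    (hπ : Function.Surjective π) :
    (ShortComplex.mk (ModuleCat.ofHom (LinearMap.ker π).subtype) (ModuleCat.ofHom π)
      (ModuleCat.hom_ext (LinearMap.comp_ker_subtype π))).ShortExact :=
  { exact := (ShortComplex.ShortExact.moduleCat_exact_iff_function_exact _).2
      (LinearMap.exact_subtype_ker_map π)
    mono_f := (ModuleCat.mono_iff_injective _).2 Subtype.val_injective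
    epi_g := (ModuleCat.epi_iff_surjective _).2 hπ }

lemma subsingleton_ext_pi {M : ModuleCat.{u} A} {i : ℕ}
    (h : Subsingleton (Abelian.Ext M (ModuleCat.of A A) i)) :
    ∀ n : ℕ, Subsingleton (Abelian.Ext M (ModuleCat.of A (Fin n → A)) i)
  | 0 => by
    refine ⟨fun x y => ?_⟩
    have h0 : 𝟙 (ModuleCat.of A (Fin 0 → A)) = 0 := ModuleCat.hom_ext (LinearMap.ext fun z => Subsingleton.elim _ _)
    rw [← x.comp_mk₀_id, ← y.comp_mk₀_id, h0, Abelian.Ext.mk₀_zero, Abelian.Ext.comp_zero,
      Abelian.Ext.comp_zero]
  | n + 1 => by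
    have ih := subsingleton_ext_pi h n
    let g : (Fin (n + 1) → A) →ₗ[A] (Fin n → A) := LinearMap.funLeft A A Fin.succ
    let f : A →ₗ[A] (Fin (n + 1) → A) := LinearMap.single A (fun _ => A) 0
    have hex : Function.Exact f g := by
      intro y
      constructor
      · intro hy
        refine ⟨y 0, funext fun j => ?_⟩
        cases j using Fin.cases with
        | zero => simp [f]
        | succ j => simpa [f, g, LinearMap.funLeft] using (congrFun hy j).symm
      · rintro ⟨a, rfl⟩
        funext j
        simp [f, g, LinearMap.funLeft]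
    let S : ShortComplex (ModuleCat.{u} A) :=
      ShortComplex.mk (ModuleCat.ofHom f) (ModuleCat.ofHom g) (ModuleCat.hom_ext hex.linearMap_comp_eq_zero)
    have hS : S.ShortExact :=
      { exact := (ShortComplex.ShortExact.moduleCat_exact_iff_function_exact _).2 hex
        mono_f := (ModuleCat.mono_iff_injective _).2 (fun a b h => Pi.single_injective (M := fun _ : Fin (n + 1) => A) 0 h)
        epi_g := (ModuleCat.epi_iff_surjective _).2 (LinearMap.funLeft_surjective_of_injective A A _ (Fin.succ_injective n)) }
    refine ⟨fun x y => sub_eq_zero.1 ?_⟩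
    obtain ⟨z, hz⟩ := Abelian.Ext.covariant_sequence_exact₂ M hS (x - y) (ih.elim _ _)
    rw [← hz, h.elim z 0, Abelian.Ext.zero_comp]

variable [IsNoetherianRing A]

lemma subsingleton_ext_of_finite (M : Type u) [AddCommGroup M] [Module A M] (t q : ℕ)
    (ht : HasProjectiveDimensionLT (ModuleCat.of A M) t)
    (h : ∀ i, q < i → Subsingleton (Abelian.Ext (ModuleCat.of A M) (ModuleCat.of A A) i)) :
    ∀ i, q < i → ∀ (N : Type u) [AddCommGroup N] [Module A N] [Module.Finite A N],
      Subsingleton (Abelian.Ext (ModuleCat.of A M) (ModuleCat.of A N) i) := by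
  suffices H : ∀ j i, q < i → t ≤ i + j → ∀ (N : Type u) [AddCommGroup N] [Module A N] [Module.Finite A N],
      Subsingleton (Abelian.Ext (ModuleCat.of A M) (ModuleCat.of A N) i) from
    fun i hi => H t i hi (Nat.le_add_left _ _)
  intro j
  induction j with
  | zero => intro i _ hti N _ _ _; exact HasProjectiveDimensionLT.subsingleton (ModuleCat.of A M) t i (by simpa using hti) _
  | succ j ih =>
    intro i hi hti N _ _ _
    obtain ⟨n, π, hπ⟩ := Module.Finite.exists_fin' A N
    refine ⟨fun x y => sub_eq_zero.1 ?_⟩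
    obtain ⟨z, hz⟩ := Abelian.Ext.covariant_sequence_exact₃ (ModuleCat.of A M) (shortExact_ker π hπ)
      (x - y) (n₁ := i + 1) rfl ((ih (i + 1) (by omega) (by omega) (LinearMap.ker π)).elim _ _)
    rw [← hz, (subsingleton_ext_pi (h i hi) n).elim z 0, Abelian.Ext.zero_comp]

lemma pd_of_ext_finite : ∀ (q : ℕ) (M : Type u) [AddCommGroup M] [Module A M] [Module.Finite A M],
    (∀ i, q < i → ∀ (N : Type u) [AddCommGroup N] [Module A N] [Module.Finite A N],
      Subsingleton (Abelian.Ext (ModuleCat.of A M) (ModuleCat.of A N) i)) →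
    HasProjectiveDimensionLT (ModuleCat.of A M) (q + 1) := by
  intro q
  induction q with
  | zero =>
    intro M _ _ _ h
    obtain ⟨n, π, hπ⟩ := Module.Finite.exists_fin' A M
    obtain ⟨s, hs⟩ := Abelian.Ext.covariant_sequence_exact₃ (ModuleCat.of A M) (shortExact_ker π hπ)
      (Abelian.Ext.mk₀ (𝟙 (ModuleCat.of A M))) (n₁ := 1) rfl ((h 1 one_pos (LinearMap.ker π)).elim _ _)
    obtain ⟨s, rfl⟩ := (Abelian.Ext.mk₀_bijective _ _).2 s
    rw [Abelian.Ext.mk₀_comp_mk₀] at hs
    have hs' := (Abelian.Ext.mk₀_bijective _ _).1 hs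
    have : Module.Projective A M :=
      Module.Projective.of_split s.hom π (by simpa using congrArg ModuleCat.Hom.hom hs')
    have : CategoryTheory.Projective (ModuleCat.of A M) := (IsProjective.iff_projective _).1 this
    exact inferInstanceAs (HasProjectiveDimensionLT (ModuleCat.of A M) 1)
  | succ q ih =>
    intro M _ _ _ h
    obtain ⟨n, π, hπ⟩ := Module.Finite.exists_fin' A M
    have hfree : CategoryTheory.Projective (ModuleCat.of A (Fin n → A)) :=
      (IsProjective.iff_projective _).1 (inferInstance : Module.Projective A (Fin n → A))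
    have hK : HasProjectiveDimensionLT (ModuleCat.of A (LinearMap.ker π)) (q + 1) := by
      refine ih (LinearMap.ker π) fun i hi N _ _ _ => ⟨fun x y => sub_eq_zero.1 ?_⟩
      obtain ⟨z, hz⟩ := Abelian.Ext.contravariant_sequence_exact₁ (shortExact_ker π hπ)
        (ModuleCat.of A N) (x - y) (n₁ := i + 1) (by omega) ((h (i + 1) (by omega) N).elim _ _)
      rw [← hz, (HasProjectiveDimensionLT.subsingleton (ModuleCat.of A (Fin n → A)) 1 i (by omega) _).elim z 0,
        Abelian.Ext.comp_zero]
    exact (shortExact_ker π hπ).hasProjectiveDimensionLT_X₃ (q + 1) hK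
      (hasProjectiveDimensionLT_of_ge _ 1 (q + 2) (by omega))

/-- detection of projective dimension by `Ext` into the ring -/
theorem pd_le_iff (M : Type u) [AddCommGroup M] [Module A M] [Module.Finite A M] (t q : ℕ)
    (ht : HasProjectiveDimensionLT (ModuleCat.of A M) t) :
    HasProjectiveDimensionLT (ModuleCat.of A M) (q + 1) ↔
      ∀ i, q < i → Subsingleton (Abelian.Ext (ModuleCat.of A M) (ModuleCat.of A A) i) :=
  ⟨fun _ i hi => HasProjectiveDimensionLT.subsingleton (ModuleCat.of A M) (q + 1) i hi _,
    fun h => pd_of_ext_finite q M (subsingleton_ext_of_finite M t q ht h)⟩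

end Groth.Agent.ExtVanish
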